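import Groth.Agent.L10.Rlim.Lim

/-! Derived limits of systems of sheaves in degree zero. -/

universe u

open CategoryTheory CategoryTheory.Limits CategoryTheory.Abelian CategoryTheory.Pretriangulated Opposite DerivedCategory

set_option autoImplicit false
set_option backward.defeqAttrib.useBackward true
set_option backward.isDefEq.respectTransparency false
set_option backward.isDefEq.respectTransparency.types false
namespace Groth.L10.Rlim

open Groth.L10.SiteCoh Groth.L10.HDUAcyclic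

theorem exists_via {T : Type (u + 1)} [Category.{u} T] [Preadditive T] [HasZeroObject T] [HasShift T ℤ]
    [∀ n : ℤ, (CategoryTheory.shiftFunctor T n).Additive] [Pretriangulated T]
    {K : ℕ → T} {t : ∀ n, K (n + 1) ⟶ K n} [HasProduct K] {L : T} (h : DCoh.IsRlim K t L) :
    ∃ a, CohCx.IsRlimVia K t L a := by
  obtain ⟨a, c, h⟩ := h
  refine ⟨fun n => a ≫ Pi.π K n, c, ?_⟩
  rwa [show Pi.lift (fun n => a ≫ Pi.π K n) = a from Pi.hom_ext _ _ fun n => by simp]

theorem subsingleton_ext_of_iso {A : Type (u + 1)} [Category.{u} A] [Abelian A] [HasExt.{u} A] {Q M M' : A} (e : M ≅ M') (n : ℕ)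
    [Subsingleton (Ext Q M' n)] : Subsingleton (Ext Q M n) := subsingleton_of_forall_eq 0 fun x => by
  have h := congrArg (fun y => Ext.comp y (Ext.mk₀ e.inv) (add_zero n))
    (Subsingleton.elim (x.comp (Ext.mk₀ e.hom) (add_zero n)) 0)
  simpa [Ext.comp_assoc_of_second_deg_zero, Ext.mk₀_comp_mk₀] using h

theorem subsingleton_ext_of_isZero {A : Type (u + 1)} [Category.{u} A] [Abelian A] [HasExt.{u} A] {Q M : A} (hM : IsZero M) (n : ℕ) :
    Subsingleton (Ext Q M n) := subsingleton_of_forall_eq 0 fun x => by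
  rw [← x.comp_mk₀_id, hM.eq_of_src (𝟙 M) 0, Ext.mk₀_zero, Ext.comp_zero]

variable {C : Type u} [SmallCategory C] {J : GrothendieckTopology C}
  [HasDerivedCategory.{u} (Sheaf J AddCommGrpCat.{u})]
  (F : ℕ → Sheaf J AddCommGrpCat.{u}) (t : ∀ n, F (n + 1) ⟶ F n)

/-- The cohomology sheaf of a sheaf in degree `0`. -/
noncomputable abbrev h0Iso (M : Sheaf J AddCommGrpCat.{u}) : CohCx.HD ((singleFunctor _ 0).obj M) 0 ≅ M :=
  (singleFunctorCompHomologyFunctorIso _ 0).app M

theorem isZero_HD_single (M : Sheaf J AddCommGrpCat.{u}) (q : ℤ) (hq : q ≠ 0) :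
    IsZero (CohCx.HD ((singleFunctor _ 0).obj M) q) :=
  (HomologicalComplex.isZero_single_obj_homology (ComplexShape.up ℤ) 0 M q hq).of_iso
    ((homologyFunctorFactors _ q).app _)

variable (B : Set C)
  (hB : ∀ U : C, ∃ (ι : Type u) (Y : ι → C) (f : ∀ i, Y i ⟶ U), Sieve.ofArrows Y f ∈ J U ∧ ∀ i, Y i ∈ B)
  (h1 : ∀ U ∈ B, ∀ (p n : ℕ), Subsingleton (CohSite.HU (F n) (p + 1) U))
  (h2 : ∀ U ∈ B, CohCx.LimOneIsZero (fun n => (F n).obj.obj (op U)) (fun n => ((t n).hom.app (op U)).hom))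

include h1 in
theorem acyclic_single (U : C) (hU : U ∈ B) (p : ℕ) (q : ℤ) (n : ℕ) :
    Subsingleton (CohSite.HU (CohCx.HD ((singleFunctor _ 0).obj (F n)) q) (p + 1) U) := by
  change Subsingleton (Ext (fs J U) _ (p + 1))
  by_cases hq : q = 0
  · subst hq
    have : Subsingleton (Ext (fs J U) (F n) (p + 1)) := h1 U hU p n
    exact subsingleton_ext_of_iso (h0Iso (F n)) (p + 1)
  · exact subsingleton_ext_of_isZero (isZero_HD_single (F n) q hq) (p + 1)

include h2 in
theorem limOne_single (U : C) (hU : U ∈ B) (q : ℤ) :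
    CohCx.LimOneIsZero (fun n => (CohCx.HD ((singleFunctor _ 0).obj (F n)) q).obj.obj (op U))
      (fun n => (((DerivedCategory.homologyFunctor _ q).map ((singleFunctor _ 0).map (t n))).hom.app (op U)).hom) := by
  by_cases hq : q = 0
  · subst hq
    let ev := sheafToPresheaf J AddCommGrpCat.{u} ⋙ (evaluation _ _).obj (op U)
    exact limOne_congr (A := fun n => (CohCx.HD ((singleFunctor _ 0).obj (F n)) 0).obj.obj (op U))
      (A' := fun n => (F n).obj.obj (op U)) _ _ (fun n => (ev.map (h0Iso (F n)).hom).hom)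
      (fun n => (ev.mapIso (h0Iso (F n))).addCommGroupIsoToAddEquiv.bijective)
      (fun n x => congr($(congr_app (congrArg (fun f : CohCx.HD ((singleFunctor _ 0).obj (F (n+1))) 0 ⟶ F n => f.hom)
        ((singleFunctorCompHomologyFunctorIso (Sheaf J AddCommGrpCat.{u}) 0).hom.naturality (t n))) (op U)) x))
      (h2 U hU)
  · have : ∀ n, Subsingleton ((CohCx.HD ((singleFunctor _ 0).obj (F n)) q).obj.obj (op U)) := fun n =>
      AddCommGrpCat.subsingleton_of_isZero (Functor.map_isZero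
        (sheafToPresheaf J AddCommGrpCat.{u} ⋙ (evaluation _ _).obj (op U)) (isZero_HD_single (F n) q hq))
    exact limOne_of_subsingleton (A := fun n => (CohCx.HD ((singleFunctor _ 0).obj (F n)) q).obj.obj (op U)) _

include hB h1 h2 in
theorem isRlim_and_acyclic [HasProduct fun n => (singleFunctor (Sheaf J AddCommGrpCat.{u}) 0).obj (F n)] :
    DCoh.IsRlim (fun n => (singleFunctor _ 0).obj (F n)) (fun n => (singleFunctor _ 0).map (t n))
      ((singleFunctor _ 0).obj (limit (CohCx.opSequence F t))) ∧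
    ∀ U ∈ B, ∀ p : ℕ, Subsingleton (CohSite.HU (limit (CohCx.opSequence F t)) (p + 1) U) := by
  let K := fun n => (singleFunctor (Sheaf J AddCommGrpCat.{u}) 0).obj (F n)
  let t' : ∀ n, K (n + 1) ⟶ K n := fun n => (singleFunctor _ 0).map (t n)
  let Δ : ∏ᶜ K ⟶ ∏ᶜ K := Pi.lift fun n => Pi.π K n - Pi.π K (n + 1) ≫ t' n
  obtain ⟨L, f, g, hT⟩ := distinguished_cocone_triangle₁ Δ
  obtain ⟨a, hL⟩ := exists_via (K := K) (t := t') (L := L) ⟨f, g, hT⟩
  have hiso := fun q => nonempty_iso_limit B hB (K := K) (t := t') (acyclic_single F B h1) (limOne_single F t B h2) hL q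
  have hz : ∀ q : ℤ, q ≠ 0 → IsZero (CohCx.HD L q) := fun q hq => by
    obtain ⟨e⟩ := hiso q
    refine IsZero.of_iso ?_ e
    rw [IsZero.iff_id_eq_zero]
    exact limit.hom_ext fun j => (isZero_HD_single (F j.unop) q hq).eq_of_tgt _ _
  have : L.IsGE 0 := (isGE_iff L 0).2 fun i hi => hz i (by omega)
  have : L.IsLE 0 := (isLE_iff L 0).2 fun i hi => hz i (by omega)
  obtain ⟨eL⟩ := exists_iso_single_H L 0
  obtain ⟨e0⟩ := hiso 0
  let s := CohCx.opSequence (fun n => CohCx.HD (K n) 0) (fun n => (DerivedCategory.homologyFunctor _ 0).map (t' n))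
  let nt : s ⟶ CohCx.opSequence F t := NatTrans.ofOpSequence (fun n => (h0Iso (F n)).hom) fun n => by
    simp only [s, Functor.ofOpSequence_map_homOfLE_succ]
    exact (singleFunctorCompHomologyFunctorIso (Sheaf J AddCommGrpCat.{u}) 0).hom.naturality (t n)
  have : ∀ j, IsIso (nt.app j) := fun j => inferInstanceAs (IsIso (h0Iso (F j.unop)).hom)
  have : IsIso nt := NatIso.isIso_of_isIso_app nt
  let e : L ≅ (singleFunctor _ 0).obj (limit (CohCx.opSequence F t)) :=
    eL ≪≫ (singleFunctor _ 0).mapIso (e0 ≪≫ lim.mapIso (asIso nt))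
  refine ⟨⟨e.inv ≫ f, g ≫ (CategoryTheory.shiftFunctor _ (1 : ℤ)).map e.hom,
    isomorphic_distinguished _ hT _ (Triangle.isoMk _ _ e.symm (Iso.refl _) (Iso.refl _) ?_ ?_ ?_)⟩, fun U hU p => ?_⟩
  · simp
  · exact (Category.comp_id _).trans (Category.id_comp _).symm
  · change (g ≫ (CategoryTheory.shiftFunctor _ (1 : ℤ)).map e.hom) ≫ (CategoryTheory.shiftFunctor _ (1 : ℤ)).map e.inv = 𝟙 _ ≫ g
    rw [Category.assoc, ← Functor.map_comp, e.hom_inv_id, CategoryTheory.Functor.map_id, Category.comp_id, Category.id_comp]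
  · have hzero : ∀ x : CohCx.HDU L ((p + 1 : ℕ) : ℤ) U, x = 0 := fun x => by
      refine (RlimVia.exists_lift_and_unique K t' L a hL _ ((p + 1 : ℕ) : ℤ)).2
        (limOne_HDU B hB (K := K) (t := t') (acyclic_single F B h1) (limOne_single F t B h2) U hU _) x fun n => ?_
      have : Subsingleton (Ext (fs J U) (F n) (p + 1)) := h1 U hU p n
      have h := (Ext.homEquiv.{u} (X := fs J U) (Y := F n) (n := p + 1)).symm.subsingleton
      exact h.elim _ _
    change Subsingleton (Ext (fs J U) (limit (CohCx.opSequence F t)) (p + 1))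
    refine (Ext.homEquiv.{u} (n := p + 1)).subsingleton_congr.2 (subsingleton_of_forall_eq 0 fun x => ?_)
    have := congrArg (fun y : CohCx.HDU L ((p + 1 : ℕ) : ℤ) U => y ≫ (CategoryTheory.shiftFunctor _ ((p + 1 : ℕ) : ℤ)).map e.hom)
      (hzero (x ≫ (CategoryTheory.shiftFunctor _ ((p + 1 : ℕ) : ℤ)).map e.inv))
    simp only [Category.assoc, ← Functor.map_comp, e.inv_hom_id, CategoryTheory.Functor.map_id, zero_comp] at this
    exact (Category.comp_id x).symm.trans this

/-- A basis gives a covering class. -/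
theorem basis_cover {X : TopCat.{u}} {B : Set (TopologicalSpace.Opens X)} (hB : TopologicalSpace.Opens.IsBasis B)
    (V : TopologicalSpace.Opens X) :
    ∃ (ι : Type u) (Y : ι → TopologicalSpace.Opens X) (f : ∀ i, Y i ⟶ V),
      Sieve.ofArrows Y f ∈ Opens.grothendieckTopology X V ∧ ∀ i, Y i ∈ B := by
  choose W hW hxW hWV using fun x : V => TopologicalSpace.Opens.isBasis_iff_nbhd.1 hB x.2
  exact ⟨V, W, fun x => homOfLE (hWV x),
    fun x hx => ⟨_, homOfLE (hWV ⟨x, hx⟩), Sieve.ofArrows_mk _ _ (⟨x, hx⟩ : V), hxW ⟨x, hx⟩⟩, hW⟩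

end Groth.L10.Rlim
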