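import Groth.Agent.L10.TowerStab

/-! Detection of isomorphisms on `H⁰` by test objects, with local (possibly pointwise) vanishing. -/

universe t w v u

open CategoryTheory CategoryTheory.Limits CategoryTheory.Pretriangulated DerivedCategory

set_option autoImplicit false
set_option backward.defeqAttrib.useBackward true
set_option backward.isDefEq.respectTransparency false
namespace Groth.L10.Rlim

open Groth.L10.LocalDetect Groth.L10.TowerStab

variable {C : Type u} [Category.{v} C] [Abelian C] [HasDerivedCategory.{w} C]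

local notation "tt" => DerivedCategory.TStructure.t
local notation "S0" => singleFunctor C 0
local notation "H0" => homologyFunctor C 0

/-- Test objects detecting zero maps, the vanishing on each test object being only local. -/
structure LCover (C : Type u) [Category.{v} C] [Abelian C] (ι : Type t) where
  P : ι → C
  good : ι → C → Prop
  Zero : ∀ (i : ι) ⦃N : C⦄, (P i ⟶ N) → Prop
  sep : ∀ ⦃M N : C⦄ (g : M ⟶ N), (∀ i (a : P i ⟶ M), Zero i (a ≫ g)) → g = 0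
  cov : ∀ i ⦃T : C⦄ (p : T ⟶ P i) [Epi p] ⦃N : C⦄ (b : P i ⟶ N),
    (∀ (Q' : C) (r : Q' ⟶ T), good i Q' → r ≫ p ≫ b = 0) → Zero i b

/-- Smallness in one degree. -/
theorem single_eq_zero {Q M : C} (p k : ℤ) (hv : ∀ g : (S0).obj Q ⟶ ((S0).obj M)⟦(-p - k)⟧, g = 0)
    (g : ((S0).obj Q)⟦k⟧ ⟶ (singleFunctor C p).obj M) : g = 0 := by
  let e₁ : (singleFunctor C p).obj M ≅ ((S0).obj M)⟦(-p)⟧ :=
    ((singleFunctors C).shiftIso (-p) p 0 (by omega)).symm.app M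
  let e₂ : (((S0).obj Q)⟦k⟧)⟦(-k)⟧ ≅ (S0).obj Q := (shiftEquiv _ k).unitIso.symm.app _
  let e₃ : (((S0).obj M)⟦(-p)⟧)⟦(-k)⟧ ≅ ((S0).obj M)⟦(-p - k)⟧ :=
    ((shiftFunctorAdd' _ (-p) (-k) (-p - k) (by omega)).app _).symm
  have h0 := hv (e₂.inv ≫ (g ≫ e₁.hom)⟦(-k)⟧' ≫ e₃.hom)
  rw [← cancel_mono e₁.hom, zero_comp]
  refine (shiftFunctor _ (-k)).map_injective ?_
  rw [Functor.map_zero, ← cancel_epi e₂.inv, ← cancel_mono e₃.hom, Category.assoc, h0, comp_zero, zero_comp]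

/-- Truncation transition maps are bijective when two extension groups vanish. -/
theorem bijective_tr' {Q : C} (X : DerivedCategory C) (k : ℤ) (n : ℕ)
    (h₁ : ∀ g : (S0).obj Q ⟶ ((S0).obj ((homologyFunctor C (-((n + 1 : ℕ) : ℤ))).obj X))⟦(-(-((n + 1 : ℕ) : ℤ)) - k)⟧, g = 0)
    (h₂ : ∀ g : (S0).obj Q ⟶ ((S0).obj ((homologyFunctor C (-((n + 1 : ℕ) : ℤ))).obj X))⟦(-(-((n + 1 : ℕ) : ℤ)) - (k - 1))⟧, g = 0) :
    Function.Bijective (fun x : ((S0).obj Q)⟦k⟧ ⟶ ((tt).truncGE (-((n + 1 : ℕ) : ℤ))).obj X => x ≫ tr X n) := by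
  let a : ℤ := -((n + 1 : ℕ) : ℤ)
  let Y := ((tt).truncGE a).obj X
  let F := ((tt).truncLT (-(n : ℤ))).obj Y
  have hsq : ((tt).truncGEπ a).app X ≫ ((tt).truncGEπ (-(n : ℤ))).app Y =
      ((tt).truncGEπ (-(n : ℤ))).app X ≫ ((tt).truncGE (-(n : ℤ))).map (((tt).truncGEπ a).app X) :=
    ((tt).truncGEπ (-(n : ℤ))).naturality _
  have hφ : tr X n ≫ ((tt).truncGE (-(n : ℤ))).map (((tt).truncGEπ a).app X) = ((tt).truncGEπ (-(n : ℤ))).app Y := by
    have : (tt).IsGE (((tt).truncGE (-(n : ℤ))).obj Y) a := (tt).isGE_of_ge _ a (-(n : ℤ)) (by simp only [a]; omega)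
    refine (tt).from_truncGE_obj_ext ?_
    rw [← Category.assoc, (tt).π_natTransTruncGEOfLE_app]
    exact hsq.symm
  have : IsIso (((tt).truncGE (-(n : ℤ))).map (((tt).truncGEπ a).app X)) := by
    rw [DerivedCategory.isIso_iff]
    intro i
    by_cases hi : -(n : ℤ) ≤ i
    · have := isIso_H_π (-(n : ℤ)) i hi X
      have := isIso_H_π (-(n : ℤ)) i hi Y
      have := isIso_H_π a i (by simp only [a]; omega) X
      have h1 := congrArg (homologyFunctor C i).map hsq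
      rw [Functor.map_comp, Functor.map_comp] at h1
      refine @IsIso.of_isIso_comp_left _ _ _ _ _ ((homologyFunctor C i).map (((tt).truncGEπ (-(n : ℤ))).app X)) _ _ ?_
      rw [← h1]
      infer_instance
    · exact (isZero_H_GE (-(n : ℤ)) i (by omega) X).isIso (isZero_H_GE (-(n : ℤ)) i (by omega) Y) _
  have hFle : DerivedCategory.IsLE F a := (tt).isLE_truncLT_obj _ _ _ (by simp only [a]; omega)
  have hFge : DerivedCategory.IsGE F a := by
    rw [DerivedCategory.isGE_iff]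
    intro i hi
    have := isIso_H_ι (-(n : ℤ)) i (by simp only [a] at hi; omega) Y
    exact (isZero_H_GE a i hi X).of_iso (asIso ((homologyFunctor C i).map (((tt).truncLTι (-(n : ℤ))).app Y)))
  obtain ⟨e⟩ := exists_iso_single_H F a
  let eH : (homologyFunctor C a).obj F ≅ (homologyFunctor C a).obj X :=
    (@asIso _ _ _ _ _ (isIso_H_ι (-(n : ℤ)) a (by simp only [a]; omega) Y)) ≪≫
      (@asIso _ _ _ _ _ (isIso_H_π a a le_rfl X)).symm
  let e' : F ≅ (singleFunctor C a).obj ((homologyFunctor C a).obj X) := e ≪≫ (singleFunctor C a).mapIso eH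
  have hF : ∀ g : ((S0).obj Q)⟦k⟧ ⟶ F, g = 0 := fun g => by
    rw [← cancel_mono e'.hom, zero_comp]
    exact single_eq_zero a k h₁ _
  have hF1 : ∀ g : ((S0).obj Q)⟦k⟧ ⟶ F⟦(1 : ℤ)⟧, g = 0 := fun g => by
    let e₂ := (shiftFunctorAdd' (DerivedCategory C) k (-1) (k - 1) (by omega)).app ((S0).obj Q)
    let u := (shiftEquiv (DerivedCategory C) (1 : ℤ)).unitIso.symm.app F
    have h0 := single_eq_zero a (k - 1) h₂ (e₂.hom ≫ g⟦(-1 : ℤ)⟧' ≫ u.hom ≫ e'.hom)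
    refine (shiftFunctor _ (-1 : ℤ)).map_injective ?_
    rw [Functor.map_zero, ← cancel_epi e₂.hom, ← cancel_mono (u.hom ≫ e'.hom), Category.assoc, h0, comp_zero, zero_comp]
  have hT := (tt).triangleLTGE_distinguished (-(n : ℤ)) Y
  refine ⟨fun x x' hx => ?_, fun y => ?_⟩
  · rw [← sub_eq_zero]
    have h1 : (x - x') ≫ ((tt).truncGEπ (-(n : ℤ))).app Y = 0 := by
      have hx' : (x - x') ≫ tr X n = 0 := (Preadditive.sub_comp _ _ _).trans (sub_eq_zero.2 hx)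
      rw [← hφ, ← Category.assoc, hx', zero_comp]
    obtain ⟨g, hg⟩ := Triangle.coyoneda_exact₂ _ hT _ h1
    rw [hg, hF g, zero_comp]
  · obtain ⟨x, hx⟩ := Triangle.coyoneda_exact₃ _ hT
      (y ≫ ((tt).truncGE (-(n : ℤ))).map (((tt).truncGEπ a).app X)) (hF1 _)
    refine ⟨x, ?_⟩
    rw [← cancel_mono (((tt).truncGE (-(n : ℤ))).map (((tt).truncGEπ a).app X)), Category.assoc, hφ]
    exact hx.symm


variable [KInjDerived.EnoughKInjectives C]

/-- A class killed by an injective-on-test-objects map vanishes locally. -/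
theorem zero_of_comp {ι : Type t} (𝒞 : LCover C ι) (i : ι) {X Y Z : DerivedCategory C} (f' : X ⟶ Z) (g : Z ⟶ Y)
    (hg : IsIso ((H0).map g)) (hinj : ∀ Q', 𝒞.good i Q' → ∀ ξ : (S0).obj Q' ⟶ X, ξ ≫ f' = 0 → ξ = 0)
    (b : 𝒞.P i ⟶ (H0).obj X) (hb : b ≫ (H0).map (f' ≫ g) = 0) : 𝒞.Zero i b := by
  rw [Functor.map_comp, ← Category.assoc, ← zero_comp (f := (H0).map g), cancel_mono] at hb
  obtain ⟨T₁, p₁, hp₁, ξ, hξ⟩ := exists_lift b
  obtain ⟨T₂, p₂, hp₂, h₂⟩ := exists_eq_zero (ξ ≫ f') (by rw [cls_comp, hξ, Category.assoc, hb, comp_zero])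
  refine 𝒞.cov i (p₂ ≫ p₁) b fun Q' r hQ => ?_
  have := hinj Q' hQ ((S0).map (r ≫ p₂) ≫ ξ) (by
    rw [Functor.map_comp, Category.assoc, Category.assoc, h₂, comp_zero])
  have h3 := congrArg cls this
  rw [cls_zero, cls_map, hξ] at h3
  simpa [Category.assoc] using h3

/-- A monomorphism on `H⁰` from injectivity on good test objects. -/
theorem mono_H0 {ι : Type t} (𝒞 : LCover C ι) {X Y : DerivedCategory C} (f : X ⟶ Y)
    (h : ∀ i, ∃ (Z : DerivedCategory C) (f' : X ⟶ Z) (g : Z ⟶ Y), f' ≫ g = f ∧ IsIso ((H0).map g) ∧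
      ∀ Q', 𝒞.good i Q' → ∀ ξ : (S0).obj Q' ⟶ X, ξ ≫ f' = 0 → ξ = 0) :
    Mono ((H0).map f) := by
  refine Preadditive.mono_of_cancel_zero _ fun {M} k hk => 𝒞.sep k fun i a => ?_
  obtain ⟨Z, f', g, rfl, hg, hinj⟩ := h i
  exact zero_of_comp 𝒞 i f' g hg hinj (a ≫ k) (by rw [Category.assoc, hk, comp_zero])

/-- An epimorphism on `H⁰` from surjectivity on good test objects. -/
theorem epi_H0 {ι : Type t} (𝒞 : LCover C ι) {X Y : DerivedCategory C} (f : X ⟶ Y)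
    (h : ∀ i, ∃ (Z : DerivedCategory C) (f' : X ⟶ Z) (g : Z ⟶ Y), f' ≫ g = f ∧ IsIso ((H0).map g) ∧
      ∀ Q', 𝒞.good i Q' → ∀ η : (S0).obj Q' ⟶ Z, ∃ ξ : (S0).obj Q' ⟶ X, ξ ≫ f' = η) :
    Epi ((H0).map f) := by
  refine Preadditive.epi_of_cancel_zero _ fun {N} k hk => 𝒞.sep k fun i a => ?_
  obtain ⟨Z, f', g, rfl, hg, hsurj⟩ := h i
  obtain ⟨T₁, p₁, hp₁, η, hη⟩ := exists_lift (a ≫ inv ((H0).map g))
  refine 𝒞.cov i p₁ (a ≫ k) fun Q' r hQ => ?_
  obtain ⟨ξ, hξ⟩ := hsurj Q' hQ ((S0).map r ≫ η)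
  have h3 := congrArg cls hξ
  rw [cls_comp, cls_map, hη] at h3
  have h4 := congrArg (· ≫ (H0).map g ≫ k) h3
  simp only [Category.assoc, IsIso.inv_hom_id_assoc] at h4
  rw [← h4, ← Functor.map_comp_assoc, hk, comp_zero]


/-- A tower stabilising on cohomology sheaves and, locally, on test objects computes the cohomology of its derived
limit. -/
theorem isIso_H_rlim {ι : Type t} (𝒞 : LCover C ι) {K : ℕ → DerivedCategory C}
    {t : ∀ n, K (n + 1) ⟶ K n} [HasProduct K] {L : DerivedCategory C} {a : ∀ n, L ⟶ K n}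
    (hL : CohCx.IsRlimVia K t L a) (j : ℤ) (n₀ : ℕ)
    (hst : ∀ n, n₀ ≤ n → IsIso ((homologyFunctor C j).map (t n)))
    (hgood : ∀ i, ∃ N : ℕ, ∀ Q, 𝒞.good i Q → ∀ n, N ≤ n →
      Function.Bijective (fun x : ((S0).obj Q)⟦(-j)⟧ ⟶ K (n + 1) => x ≫ t n) ∧
      Function.Surjective (fun x : ((S0).obj Q)⟦(-j + 1)⟧ ⟶ K (n + 1) => x ≫ t n)) :
    IsIso ((homologyFunctor C j).map (a n₀)) := by
  have htrans : ∀ m : ℕ, ∃ g : K (n₀ + m) ⟶ K n₀, a (n₀ + m) ≫ g = a n₀ ∧ IsIso ((homologyFunctor C j).map g) := fun m => by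
    induction m with
    | zero => exact ⟨𝟙 _, Category.comp_id _, inferInstance⟩
    | succ m ih =>
      obtain ⟨g, hg, hg'⟩ := ih
      have := hst (n₀ + m) (by omega)
      refine ⟨t (n₀ + m) ≫ g, ?_, ?_⟩
      · exact (Category.assoc _ _ _).symm.trans ((congrArg (· ≫ g) (rlim_w hL (n₀ + m))).trans hg)
      · rw [Functor.map_comp]
        infer_instance
  let adj := (shiftEquiv (DerivedCategory C) j).symm.toAdjunction
  have hkey : ∀ i, ∃ (m : ℕ), ∀ Q, 𝒞.good i Q →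
      Function.Bijective (fun ξ : (S0).obj Q ⟶ L⟦j⟧ => ξ ≫ (a (n₀ + m))⟦j⟧') := fun i => by
    obtain ⟨N, hN⟩ := hgood i
    refine ⟨N, fun Q hQ => ?_⟩
    have hb := bijective_rlim hL (((S0).obj Q)⟦(-j)⟧) (n₀ + N) (fun n hn => (hN Q hQ n (by omega)).1) (fun n hn x => by
      let e := (shiftFunctorAdd' (DerivedCategory C) (-j) 1 (-j + 1) rfl).app ((S0).obj Q)
      obtain ⟨y, hy⟩ := (hN Q hQ n (by omega)).2 (e.hom ≫ x)
      exact ⟨e.inv ≫ y, (Category.assoc _ _ _).trans ((congrArg (e.inv ≫ ·) hy).trans (Iso.inv_hom_id_assoc _ _))⟩)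
    have hc : (fun ξ : (S0).obj Q ⟶ L⟦j⟧ => ξ ≫ (a (n₀ + N))⟦j⟧') =
        (adj.homEquiv _ _) ∘ (fun x => x ≫ a (n₀ + N)) ∘ (adj.homEquiv _ _).symm := by
      funext ξ
      simp only [Function.comp_apply]
      exact ((adj.homEquiv_naturality_right ((adj.homEquiv _ _).symm ξ) (a (n₀ + N))).trans (congrArg (fun z => z ≫ (a (n₀ + N))⟦j⟧') ((adj.homEquiv _ _).apply_symm_apply ξ))).symm
    rw [hc]
    exact (adj.homEquiv _ _).bijective.comp (hb.comp (adj.homEquiv _ _).symm.bijective)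
  have hfac : ∀ m, ∃ g : (K (n₀ + m))⟦j⟧ ⟶ (K n₀)⟦j⟧, (a (n₀ + m))⟦j⟧' ≫ g = (a n₀)⟦j⟧' ∧
      IsIso ((homologyFunctor C 0).map g) := fun m => by
    obtain ⟨g, hg, hg'⟩ := htrans m
    refine ⟨g⟦j⟧', by rw [← Functor.map_comp, hg], ?_⟩
    exact ((MorphismProperty.isomorphisms C).arrow_mk_iso_iff (Arrow.isoMk (hShiftIso _ j 0 j (by omega))
      (hShiftIso _ j 0 j (by omega)) (hShiftIso_nat g j 0 j (by omega)).symm)).2 hg'
  have : Mono ((homologyFunctor C 0).map ((a n₀)⟦j⟧')) := Rlim.mono_H0 𝒞 _ fun i => by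
    obtain ⟨m, hm⟩ := hkey i
    obtain ⟨g, hg, hg'⟩ := hfac m
    exact ⟨_, _, g, hg, hg', fun Q hQ ξ hξ => (hm Q hQ).injective (hξ.trans zero_comp.symm)⟩
  have : Epi ((homologyFunctor C 0).map ((a n₀)⟦j⟧')) := Rlim.epi_H0 𝒞 _ fun i => by
    obtain ⟨m, hm⟩ := hkey i
    obtain ⟨g, hg, hg'⟩ := hfac m
    exact ⟨_, _, g, hg, hg', fun Q hQ η => (hm Q hQ).surjective η⟩
  exact ((MorphismProperty.isomorphisms C).arrow_mk_iso_iff (Arrow.isoMk (hShiftIso _ j 0 j (by omega))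
      (hShiftIso _ j 0 j (by omega)) (hShiftIso_nat (a n₀) j 0 j (by omega)).symm)).1 (isIso_of_mono_of_epi _)

/-- Under local bounds, an object is the derived limit of its truncations. -/
theorem isRlimVia_truncGE {ι : Type t} (𝒞 : LCover C ι) {X : DerivedCategory C}
    (h : ∀ (j : ℤ) (i : ι), ∃ N : ℕ, ∀ Q, 𝒞.good i Q → ∀ n, N ≤ n →
      Function.Bijective (fun x : ((S0).obj Q)⟦(-j)⟧ ⟶ ((tt).truncGE (-((n + 1 : ℕ) : ℤ))).obj X => x ≫ tr X n) ∧
      Function.Surjective (fun x : ((S0).obj Q)⟦(-j + 1)⟧ ⟶ ((tt).truncGE (-((n + 1 : ℕ) : ℤ))).obj X => x ≫ tr X n))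
    [HasProduct fun n : ℕ => ((tt).truncGE (-(n : ℤ))).obj X] :
    CohCx.IsRlimVia _ (tr X) X (fun n => ((tt).truncGEπ (-(n : ℤ))).app X) := by
  let K := fun n : ℕ => ((tt).truncGE (-(n : ℤ))).obj X
  let Δ : ∏ᶜ K ⟶ ∏ᶜ K := Pi.lift fun n => Pi.π K n - Pi.π K (n + 1) ≫ tr X n
  obtain ⟨L, f, g, hT⟩ := distinguished_cocone_triangle₁ Δ
  have hf : Pi.lift (fun n => f ≫ Pi.π K n) = f := Pi.hom_ext _ _ fun n => by simp
  have hL : CohCx.IsRlimVia K (tr X) L (fun n => f ≫ Pi.π K n) := ⟨g, by rw [hf]; exact hT⟩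
  have hπ : Pi.lift (fun n : ℕ => ((tt).truncGEπ (-(n : ℤ))).app X) ≫ Δ = 0 := Pi.hom_ext _ _ fun n => by
    simp only [Δ, Category.assoc, Pi.lift_π, Preadditive.comp_sub, Pi.lift_π_assoc, zero_comp]
    erw [Pi.lift_π, Pi.lift_π_assoc]
    erw [(tt).π_natTransTruncGEOfLE_app]
    exact sub_self _
  obtain ⟨c, hc⟩ := Triangle.coyoneda_exact₂ _ hT _ hπ
  have : IsIso c := by
    rw [DerivedCategory.isIso_iff]
    intro j
    let n := (-j).toNat
    have hj : -(n : ℤ) ≤ j := by omega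
    have := isIso_H_π (-(n : ℤ)) j hj X
    have := isIso_H_rlim 𝒞 hL j n (fun m hm => isIso_H_tr X j m (by omega)) (h j)
    have h1 : c ≫ f ≫ Pi.π K n = ((tt).truncGEπ (-(n : ℤ))).app X := by
      have := congrArg (· ≫ Pi.π K n) hc
      simp only [Category.assoc] at this
      exact this.symm.trans (Pi.lift_π _ _)
    have h2 : IsIso ((homologyFunctor C j).map c ≫ (homologyFunctor C j).map (f ≫ Pi.π K n)) := by
      rw [← Functor.map_comp, h1]
      infer_instance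
    exact IsIso.of_isIso_comp_right _ ((homologyFunctor C j).map (f ≫ Pi.π K n))
  refine ⟨g ≫ (inv c)⟦(1 : ℤ)⟧', isomorphic_distinguished _ hT _ (Triangle.isoMk _ _ (asIso c) (Iso.refl _) (Iso.refl _) ?_ ?_ ?_)⟩
  · simpa using hc
  · simp [Δ, K]
  · simp [← Functor.map_comp]

end Groth.L10.Rlim
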