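import Groth.Agent.L10.Rlim.Site
import Groth.Agent.L10.RlimVia
import Mathlib.Topology.Sheaves.Stalks

/-! Injectivity on cohomology sheaves of a derived limit. -/

universe u

open CategoryTheory CategoryTheory.Limits Opposite DerivedCategory TopologicalSpace

set_option autoImplicit false
set_option backward.defeqAttrib.useBackward true
set_option backward.isDefEq.respectTransparency false
set_option backward.isDefEq.respectTransparency.types false
namespace Groth.L10.Rlim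

open Groth.L10.SiteCoh

variable {C : Type u} [SmallCategory C] {J : GrothendieckTopology C}
  [HasDerivedCategory.{u} (Sheaf J AddCommGrpCat.{u})]
  {K : ℕ → DerivedCategory (Sheaf J AddCommGrpCat.{u})} {t : ∀ n, K (n + 1) ⟶ K n} [HasProduct K]
  {L : DerivedCategory (Sheaf J AddCommGrpCat.{u})} {a : ∀ n, L ⟶ K n}

theorem comp_transition (hL : CohCx.IsRlimVia K t L a) (n : ℕ) : ∀ k, a (n + k) ≫ CohCx.transition K t n k = a n
  | 0 => Category.comp_id _
  | k + 1 => (Category.assoc _ _ _).symm.trans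
      ((congrArg (· ≫ CohCx.transition K t n k) (TowerStab.rlim_w hL (n + k))).trans (comp_transition hL n k))

/-- The conditions on an object under which classes in the limit are seen at one index. -/
def InjAt (K : ℕ → DerivedCategory (Sheaf J AddCommGrpCat.{u})) (t : ∀ n, K (n + 1) ⟶ K n) (m : ℤ) (N : ℕ) (W : C) : Prop :=
  CohCx.LimOneIsZero (fun n => CohCx.HDU (K n) (m - 1) W)
      (fun n => Preadditive.rightComp _ ((CategoryTheory.shiftFunctor _ (m - 1)).map (t n))) ∧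
    ∀ k : ℕ, Function.Injective
      (Preadditive.rightComp _ ((CategoryTheory.shiftFunctor _ m).map (CohCx.transition K t N k)) :
        CohCx.HDU (K (N + k)) m W → CohCx.HDU (K N) m W)

theorem InjAt.eq_zero {m : ℤ} {N : ℕ} {W : C} (h : InjAt K t m N W) (hL : CohCx.IsRlimVia K t L a)
    (ξ : CohCx.HDU L m W) (hξ : ξ ≫ (CategoryTheory.shiftFunctor _ m).map (a N) = 0) : ξ = 0 := by
  have up : ∀ k, ξ ≫ (CategoryTheory.shiftFunctor _ m).map (a (N + k)) = 0 := fun k => h.2 k (by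
    change (ξ ≫ _) ≫ _ = (0 : CohCx.HDU (K (N + k)) m W) ≫ (CategoryTheory.shiftFunctor _ m).map _
    rw [Category.assoc, ← Functor.map_comp, comp_transition hL, hξ, zero_comp])
  refine (RlimVia.exists_lift_and_unique K t L a hL _ m).2 h.1 ξ fun n => ?_
  rcases le_total N n with hn | hn
  · obtain ⟨k, rfl⟩ := Nat.exists_eq_add_of_le hn
    exact up k
  · obtain ⟨k, rfl⟩ := Nat.exists_eq_add_of_le hn
    rw [← comp_transition hL n k, Functor.map_comp, ← Category.assoc, hξ, zero_comp]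

theorem zero_of_injAt {ι : Type u} (𝒞 : LCover (Sheaf J AddCommGrpCat.{u}) ι) (i : ι) {m : ℤ} {N : ℕ}
    (hgood : ∀ Q, 𝒞.good i Q → ∃ W, InjAt K t m N W ∧ Q = fs J W) (hL : CohCx.IsRlimVia K t L a)
    (b : 𝒞.P i ⟶ CohCx.HD L m) (hb : b ≫ (homologyFunctor _ m).map (a N) = 0) :
    𝒞.Zero i (b ≫ (hShiftIso L m 0 m (by omega)).inv) := by
  refine zero_of_comp 𝒞 i ((CategoryTheory.shiftFunctor (DerivedCategory (Sheaf J AddCommGrpCat.{u})) m).map (a N))
    (𝟙 _) inferInstance (fun Q hQ ξ hξ => ?_) _ ?_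
  · obtain ⟨W, hW, rfl⟩ := hgood Q hQ
    exact hW.eq_zero hL ξ hξ
  · have h1 := hShiftIso_nat (a N) m 0 m (by omega)
    rw [Category.comp_id, ← cancel_mono (hShiftIso (K N) m 0 m (by omega)).hom, zero_comp, Category.assoc,
      Category.assoc, h1, Iso.inv_hom_id_assoc]
    exact hb

/-- Injectivity on sections over `V`. -/
theorem injective_app (hL : CohCx.IsRlimVia K t L a) (V : C) (m : ℤ) (N : ℕ)
    (h : ∀ T ∈ J V, ∃ (ι : Type u) (Y : ι → C) (f : ∀ i, Y i ⟶ V), (∀ i, T.arrows (f i)) ∧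
      Sieve.ofArrows Y f ∈ J V ∧ ∀ i, InjAt K t m N (Y i)) :
    Function.Injective (((homologyFunctor _ m).map (a N)).hom.app (op V)) := by
  have hB : ∀ U : C, ∃ (ι : Type u) (Y : ι → C) (f : ∀ i, Y i ⟶ U), Sieve.ofArrows Y f ∈ J U ∧
      ∀ i, Y i ∈ (Set.univ : Set C) := fun U =>
    ⟨PUnit, fun _ => U, fun _ => 𝟙 U, by
      rw [show Sieve.ofArrows (fun _ : PUnit => U) (fun _ => 𝟙 U) = ⊤ from
        (Sieve.id_mem_iff_eq_top).1 (Sieve.ofArrows_mk _ (fun _ : PUnit => 𝟙 U) PUnit.unit)]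
      exact J.top_mem U, fun _ => trivial⟩
  let 𝒞 := siteCover (J := J) Set.univ hB (fun V' => {W | V'.1 = V → InjAt K t m N W}) (fun V' T hT => by
    by_cases hV : V'.1 = V
    · obtain ⟨V', hV'⟩ := V'
      subst hV
      obtain ⟨ι, Y, f, h1, h2, h3⟩ := h T hT
      exact ⟨ι, Y, f, h1, h2, fun i _ => h3 i⟩
    · exact ⟨Σ W : C, {f : W ⟶ V'.1 // T.arrows f}, fun x => x.1, fun x => x.2.1, fun x => x.2.2,
        J.superset_covering (fun W f hf => Sieve.ofArrows_mk _ (fun x : Σ W : C, {f : W ⟶ V'.1 // T.arrows f} => x.2.1) ⟨W, f, hf⟩) hT,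
        fun x hx => absurd hx hV⟩)
  refine (injective_iff_map_eq_zero _).2 fun s hs => ?_
  have h0 := zero_of_injAt 𝒞 ⟨V, trivial⟩ (fun Q ⟨W, hW, hQ⟩ => ⟨W, hW rfl, hQ⟩) hL
    ((secEquiv J V _).symm s) (by
      apply (secEquiv J V _).injective
      rw [secEquiv_comp, AddEquiv.apply_symm_apply, map_zero]
      exact hs)
  have h1 : (secEquiv J V (CohCx.HD L m)).symm s = 0 := by
    rw [← cancel_mono (hShiftIso L m 0 m (by omega)).inv, zero_comp]
    exact h0
  rw [← (secEquiv J V (CohCx.HD L m)).apply_symm_apply s, h1, map_zero]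

/-- Injectivity on stalks. -/
theorem injective_stalk {X : TopCat.{u}} [HasDerivedCategory.{u} (CohTop.Ab X)]
    {K : ℕ → DerivedCategory (CohTop.Ab X)} {t : ∀ n, K (n + 1) ⟶ K n} [HasProduct K]
    {L : DerivedCategory (CohTop.Ab X)} {a : ∀ n, L ⟶ K n} (hL : CohCx.IsRlimVia K t L a) (x : X) (m : ℤ) (N : ℕ)
    (h : ∀ V : Opens X, x ∈ V → ∃ U : Opens X, x ∈ U ∧ U ≤ V ∧ InjAt K t m N U) :
    Function.Injective ((TopCat.Presheaf.stalkFunctor AddCommGrpCat.{u} x).map
      ((homologyFunctor (CohTop.Ab X) m).map (a N)).hom) := by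
  let 𝒞 := spaceCover (X := X) (fun y => {W | y = x → InjAt K t m N W}) (fun y V hy => by
    by_cases hxy : y = x
    · subst hxy
      obtain ⟨U, h1, h2, h3⟩ := h V hy
      exact ⟨U, fun _ => h3, h1, h2⟩
    · exact ⟨V, fun e => absurd e hxy, hy, le_rfl⟩)
  refine (injective_iff_map_eq_zero _).2 fun e he => ?_
  obtain ⟨V, hV, s, rfl⟩ := TopCat.Presheaf.exists_germ_eq _ e
  rw [TopCat.Presheaf.stalkFunctor_map_germ_apply] at he
  obtain ⟨V', hV', i₁, i₂, hs⟩ := TopCat.Presheaf.germ_eq _ x hV hV _ 0 (he.trans (map_zero _).symm)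
  let s' := (CohCx.HD L m).obj.map i₁.op s
  obtain ⟨W, hW, hxW, h0⟩ := zero_of_injAt 𝒞 ⟨x, V', hV'⟩ (fun Q ⟨W, hW, hQ⟩ => ⟨W, hW rfl, hQ⟩) hL
    ((secEquiv _ V' _).symm s') (by
      apply (secEquiv _ V' _).injective
      rw [secEquiv_comp, AddEquiv.apply_symm_apply, map_zero]
      exact (congr($(((homologyFunctor (CohTop.Ab X) m).map (a N)).hom.naturality i₁.op) s)).trans
        (hs.trans (map_zero _)))
  have h1 : fsMap _ (homOfLE hW) ≫ (secEquiv _ V' (CohCx.HD L m)).symm s' = 0 := by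
    rw [← cancel_mono (hShiftIso L m 0 m (by omega)).inv, zero_comp, Category.assoc]
    exact h0
  have h2 : (CohCx.HD L m).obj.map (homOfLE hW).op s' = 0 := by
    have := congrArg (secEquiv _ W (CohCx.HD L m)) h1
    rwa [secEquiv_map, AddEquiv.apply_symm_apply, map_zero] at this
  rw [← TopCat.Presheaf.germ_res_apply _ i₁ x hV' s, ← TopCat.Presheaf.germ_res_apply _ (homOfLE hW) x hxW]
  exact (congrArg _ h2).trans (map_zero _)

end Groth.L10.Rlim
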