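import Groth.Agent.L10.Rlim.Site
import Groth.Agent.L10.RlimVia
import Groth.Prelude.Def_DCoh2
import Mathlib.CategoryTheory.Sites.LocallyBijective

/-! Cohomology sheaves of derived limits of systems acyclic on a covering class. -/

universe u

open CategoryTheory CategoryTheory.Limits CategoryTheory.Abelian CategoryTheory.Pretriangulated Opposite DerivedCategory

set_option autoImplicit false
set_option backward.defeqAttrib.useBackward true
set_option backward.isDefEq.respectTransparency false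
set_option backward.isDefEq.respectTransparency.types false
namespace Groth.L10.Rlim

open Groth.L10.SiteCoh Groth.L10.HDUAcyclic

theorem limOne_congr {A A' : ℕ → Type u} [∀ n, AddCommGroup (A n)] [∀ n, AddCommGroup (A' n)]
    (t : ∀ n, A (n + 1) →+ A n) (t' : ∀ n, A' (n + 1) →+ A' n) (e : ∀ n, A n →+ A' n)
    (hb : ∀ n, Function.Bijective (e n)) (h : ∀ n x, e n (t n x) = t' n (e (n + 1) x))
    (hl : CohCx.LimOneIsZero A' t') : CohCx.LimOneIsZero A t := fun x => by
  obtain ⟨b, hb'⟩ := hl fun n => e n (x n)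
  choose a ha using fun n => (hb n).2 (b n)
  refine ⟨a, funext fun n => (hb n).1 ?_⟩
  change e n (a n - t n (a (n + 1))) = e n (x n)
  rw [map_sub, h, ha, ha]
  exact congrFun hb' n

theorem limOne_of_subsingleton {A : ℕ → Type u} [∀ n, AddCommGroup (A n)] (t : ∀ n, A (n + 1) →+ A n)
    [∀ n, Subsingleton (A n)] : CohCx.LimOneIsZero A t := fun x => ⟨0, funext fun _ => Subsingleton.elim _ _⟩

section Derived

variable {A : Type (u + 1)} [Category.{u} A] [Abelian A] [HasDerivedCategory.{u} A]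

local notation "tt" => DerivedCategory.TStructure.t
local notation "S0" => singleFunctor A 0

theorem cls_add {T : A} {X : DerivedCategory A} (ξ η : (S0).obj T ⟶ X) :
    LocalDetect.cls (ξ + η) = LocalDetect.cls ξ + LocalDetect.cls η := by
  simp [LocalDetect.cls, Functor.map_add, Preadditive.comp_add]

/-- The class map into an object in degrees `≥ 0` is bijective. -/
theorem bijective_cls_isGE (Q : A) (Z : DerivedCategory A) [Z.IsGE 0] :
    Function.Bijective (fun x : (S0).obj Q ⟶ Z => LocalDetect.cls x) := by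
  let T := ((tt).triangleLTGE 1).obj Z
  have hT : T ∈ distTriang _ := (tt).triangleLTGE_distinguished 1 Z
  let F := ((tt).truncLT (1 : ℤ)).obj Z
  have hFle : DerivedCategory.IsLE F 0 := (tt).isLE_truncLT_obj _ _ _ (by omega)
  have hFge : DerivedCategory.IsGE F 0 := by
    rw [DerivedCategory.isGE_iff]
    intro i hi
    have := isIso_H_ι 1 i (by omega) Z
    exact ((DerivedCategory.isGE_iff Z 0).1 inferInstance i hi).of_iso
      (asIso ((DerivedCategory.homologyFunctor A i).map (((tt).truncLTι (1 : ℤ)).app Z)))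
  obtain ⟨e⟩ := exists_iso_single_H F 0
  have := isIso_H_ι 1 0 (by omega) Z
  let e' : F ≅ (S0).obj ((DerivedCategory.homologyFunctor A 0).obj Z) :=
    e ≪≫ (S0).mapIso (asIso ((DerivedCategory.homologyFunctor A 0).map (((tt).truncLTι (1 : ℤ)).app Z)))
  have h3 : ∀ g : (S0).obj Q ⟶ T.obj₃, g = 0 := fun g => by
    have : (tt).IsGE T.obj₃ 1 := inferInstanceAs ((tt).IsGE (((tt).truncGE (1 : ℤ)).obj Z) 1)
    have : (tt).IsLE ((S0).obj Q) 0 := inferInstanceAs (DerivedCategory.IsLE ((S0).obj Q) 0)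
    exact (tt).zero g 0 1 (by omega)
  have h3' : ∀ g : (S0).obj Q ⟶ T.obj₃⟦(-1 : ℤ)⟧, g = 0 := fun g => by
    have : (tt).IsGE T.obj₃ 1 := inferInstanceAs ((tt).IsGE (((tt).truncGE (1 : ℤ)).obj Z) 1)
    have : (tt).IsGE (T.obj₃⟦(-1 : ℤ)⟧) 2 := (tt).isGE_shift _ 1 (-1) 2 (by omega)
    have : (tt).IsLE ((S0).obj Q) 0 := inferInstanceAs (DerivedCategory.IsLE ((S0).obj Q) 0)
    exact (tt).zero g 0 2 (by omega)
  have hb : Function.Bijective (fun x : (S0).obj Q ⟶ T.obj₁ => x ≫ T.mor₁) := by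
    refine ⟨fun x x' hx => ?_, fun y => ?_⟩
    · rw [← sub_eq_zero]
      obtain ⟨g, hg⟩ := Triangle.coyoneda_exact₂ _ (inv_rot_of_distTriang _ hT) (x - x')
        (show (x - x') ≫ T.invRotate.mor₂ = 0 by
          change (x - x') ≫ T.mor₁ = 0
          rw [Preadditive.sub_comp, sub_eq_zero]; exact hx)
      rw [hg, h3' g, zero_comp]
    · obtain ⟨x, hx⟩ := Triangle.coyoneda_exact₂ _ hT y (h3 _)
      exact ⟨x, hx.symm⟩
  have hi : IsIso (LocalDetect.cls e'.inv) := by
    unfold LocalDetect.cls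
    infer_instance
  let m : (Q ⟶ (DerivedCategory.homologyFunctor A 0).obj Z) → ((S0).obj Q ⟶ Z) :=
    fun φ => ((S0).map φ ≫ e'.inv) ≫ T.mor₁
  have hm : Function.Bijective m :=
    hb.comp (Function.Bijective.comp
      (g := fun z : (S0).obj Q ⟶ (S0).obj ((DerivedCategory.homologyFunctor A 0).obj Z) => z ≫ e'.inv)
      ⟨fun a b h => (cancel_mono _).1 h, fun y => ⟨y ≫ e'.hom, by simp⟩⟩
      (show Function.Bijective (fun φ : Q ⟶ (DerivedCategory.homologyFunctor A 0).obj Z => (S0).map φ) from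
        ⟨(S0).map_injective, (S0).map_surjective⟩))
  have : IsIso ((DerivedCategory.homologyFunctor A 0).map T.mor₁) := isIso_H_ι 1 0 (by omega) Z
  have hc : (fun x : (S0).obj Q ⟶ Z => LocalDetect.cls x) ∘ m =
      fun φ => φ ≫ (LocalDetect.cls e'.inv ≫ (DerivedCategory.homologyFunctor A 0).map T.mor₁) := funext fun φ => by
    change LocalDetect.cls (((S0).map φ ≫ e'.inv) ≫ T.mor₁) = _
    rw [LocalDetect.cls_comp, LocalDetect.cls_map, Category.assoc]
  refine (Function.Bijective.of_comp_iff _ hm).1 ?_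
  rw [hc]
  exact ⟨fun a b h => (cancel_mono _).1 h, fun y => ⟨y ≫ inv (LocalDetect.cls e'.inv ≫
    (DerivedCategory.homologyFunctor A 0).map T.mor₁), (Category.assoc _ _ _).trans ((congrArg (y ≫ ·) (IsIso.inv_hom_id _)).trans (Category.comp_id _))⟩⟩

/-- The class map into an object which is the limit of its truncations is bijective on acyclic test objects. -/
theorem bijective_cls_rlim (Q : A) (X : DerivedCategory A)
    (hs : ∀ i, TowerStab.Small 0 Q ((DerivedCategory.homologyFunctor A i).obj X))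
    [HasProduct fun n : ℕ => ((tt).truncGE (-(n : ℤ))).obj X]
    (hL : CohCx.IsRlimVia _ (TowerStab.tr X) X (fun n => ((tt).truncGEπ (-(n : ℤ))).app X)) :
    Function.Bijective (fun x : (S0).obj Q ⟶ X => LocalDetect.cls x) := by
  let W := ((S0).obj Q)⟦(0 : ℤ)⟧
  have hb₂ := TowerStab.bijective_rlim hL W 2 (fun n hn => TowerStab.bijective_tr X hs 0 n (by omega)) (fun n hn x => by
    let e := (shiftFunctorAdd' (DerivedCategory A) (0 : ℤ) 1 1 (zero_add 1)).app ((S0).obj Q)
    obtain ⟨y, hy⟩ := (TowerStab.bijective_tr X hs 1 n (by omega)).2 (e.hom ≫ x)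
    exact ⟨e.inv ≫ y, (Category.assoc _ _ _).trans ((congrArg (e.inv ≫ ·) hy).trans (Iso.inv_hom_id_assoc _ _))⟩)
  have hb : Function.Bijective (fun x : W ⟶ X => x ≫ ((tt).truncGEπ (-((1 : ℕ) : ℤ))).app X) := by
    have hc : (fun x : W ⟶ X => x ≫ ((tt).truncGEπ (-((1 : ℕ) : ℤ))).app X) =
        (fun y => y ≫ TowerStab.tr X 1) ∘ (fun x : W ⟶ X => x ≫ ((tt).truncGEπ (-((2 : ℕ) : ℤ))).app X) := funext fun x => by
      change _ = (x ≫ _) ≫ _
      rw [Category.assoc, TowerStab.rlim_w hL 1]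
    rw [hc]
    exact (TowerStab.bijective_tr X hs 0 1 (by omega)).comp hb₂
  let Y := ((tt).truncGE (-((1 : ℕ) : ℤ))).obj X
  let F := ((tt).truncLT (0 : ℤ)).obj Y
  have hFle : DerivedCategory.IsLE F (-1) := (tt).isLE_truncLT_obj _ _ _ (by omega)
  have hFge : DerivedCategory.IsGE F (-1) := by
    rw [DerivedCategory.isGE_iff]
    intro i hi
    have := isIso_H_ι 0 i (by omega) Y
    exact (isZero_H_GE (-((1 : ℕ) : ℤ)) i (by omega) X).of_iso
      (asIso ((DerivedCategory.homologyFunctor A i).map (((tt).truncLTι (0 : ℤ)).app Y)))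
  obtain ⟨eF⟩ := exists_iso_single_H F (-1)
  have := isIso_H_ι 0 (-1) (by omega) Y
  have := isIso_H_π (-((1 : ℕ) : ℤ)) (-1) (by omega) X
  let eF' : F ≅ (singleFunctor A (-1)).obj ((DerivedCategory.homologyFunctor A (-1)).obj X) :=
    eF ≪≫ (singleFunctor A (-1)).mapIso
      ((asIso ((DerivedCategory.homologyFunctor A (-1)).map (((tt).truncLTι (0 : ℤ)).app Y))) ≪≫
        (asIso ((DerivedCategory.homologyFunctor A (-1)).map (((tt).truncGEπ (-((1 : ℕ) : ℤ))).app X))).symm)
  let u := (shiftFunctorZero (DerivedCategory A) ℤ).app ((S0).obj Q)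
  have hF : ∀ g : (S0).obj Q ⟶ F, g = 0 := fun g => by
    rw [← cancel_epi u.hom, comp_zero, ← cancel_mono eF'.hom, zero_comp]
    exact TowerStab.small_single (hs (-1)) (-1) 0 (by omega) _
  have hF1 : ∀ g : (S0).obj Q ⟶ F⟦(1 : ℤ)⟧, g = 0 := fun g => by
    let e₂ : ((S0).obj Q)⟦(-1 : ℤ)⟧ ⟶ F := g⟦(-1 : ℤ)⟧' ≫ ((shiftEquiv (DerivedCategory A) (1 : ℤ)).unitIso.symm.app F).hom
    have h0 := TowerStab.small_single (hs (-1)) (-1) (-1) (by omega) (e₂ ≫ eF'.hom)
    refine (CategoryTheory.shiftFunctor _ (-1 : ℤ)).map_injective ?_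
    rw [Functor.map_zero, ← cancel_mono (((shiftEquiv (DerivedCategory A) (1 : ℤ)).unitIso.symm.app F).hom ≫ eF'.hom),
      zero_comp, ← Category.assoc]
    exact h0
  have h2 := bijective_comp_mor₂ _ ((tt).triangleLTGE_distinguished 0 Y) ((S0).obj Q) hF hF1
  let Z := ((tt).truncGE (0 : ℤ)).obj Y
  have : Z.IsGE 0 := inferInstanceAs ((tt).IsGE (((tt).truncGE (0 : ℤ)).obj Y) 0)
  have e₃ := bijective_cls_isGE Q Z
  have := isIso_H_π 0 0 le_rfl Y
  have := isIso_H_π (-((1 : ℕ) : ℤ)) 0 (by omega) X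
  let eH : (DerivedCategory.homologyFunctor A 0).obj Z ≅ (DerivedCategory.homologyFunctor A 0).obj X :=
    (asIso ((DerivedCategory.homologyFunctor A 0).map (((tt).truncGEπ (0 : ℤ)).app Y))).symm ≪≫
      (asIso ((DerivedCategory.homologyFunctor A 0).map (((tt).truncGEπ (-((1 : ℕ) : ℤ))).app X))).symm
  have hb' : Function.Bijective (fun x : (S0).obj Q ⟶ X => x ≫ ((tt).truncGEπ (-((1 : ℕ) : ℤ))).app X) := by
    have hc : (fun x : (S0).obj Q ⟶ X => x ≫ ((tt).truncGEπ (-((1 : ℕ) : ℤ))).app X) =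
        (u.homCongr (Iso.refl _)) ∘ (fun x : W ⟶ X => x ≫ ((tt).truncGEπ (-((1 : ℕ) : ℤ))).app X) ∘
          (u.homCongr (Iso.refl _)).symm := funext fun x => by
      simp [Iso.homCongr]
    rw [hc]
    exact (Equiv.bijective _).comp (hb.comp (Equiv.bijective _))
  let g := (DerivedCategory.homologyFunctor A 0).map (((tt).truncGEπ (-((1 : ℕ) : ℤ))).app X) ≫
    (DerivedCategory.homologyFunctor A 0).map (((tt).truncGEπ (0 : ℤ)).app Y)
  have hc : (fun x : (S0).obj Q ⟶ X => LocalDetect.cls x ≫ g) =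
      (fun z : (S0).obj Q ⟶ Z => LocalDetect.cls z) ∘ (fun y : (S0).obj Q ⟶ Y => y ≫ ((tt).truncGEπ (0 : ℤ)).app Y) ∘
        (fun x : (S0).obj Q ⟶ X => x ≫ ((tt).truncGEπ (-((1 : ℕ) : ℤ))).app X) := funext fun x => by
    simp only [Function.comp_apply, LocalDetect.cls_comp, g, Category.assoc, Functor.map_comp]
  have hbg : Function.Bijective (fun x : (S0).obj Q ⟶ X => LocalDetect.cls x ≫ g) := by
    rw [hc]
    exact e₃.comp (h2.comp hb')
  exact ⟨fun x x' h => hbg.1 (congrArg (· ≫ g) h),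
    fun y => (hbg.2 (y ≫ g)).imp fun x hx => (cancel_mono g).1 hx⟩

end Derived

variable {C : Type u} [SmallCategory C] {J : GrothendieckTopology C}
  [HasDerivedCategory.{u} (Sheaf J AddCommGrpCat.{u})]

/-- The edge map `H^m(U, M) → H^m(M)(U)`. -/
noncomputable def θ (M : DerivedCategory (Sheaf J AddCommGrpCat.{u})) (m : ℤ) (U : C) :
    CohCx.HDU M m U →+ (CohCx.HD M m).obj.obj (op U) :=
  AddMonoidHom.mk' (fun x => secEquiv J U _ (LocalDetect.cls x ≫ (hShiftIso M m 0 m (by omega)).hom))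
    fun x y => by rw [cls_add, Preadditive.add_comp, map_add]

theorem θ_map {M M' : DerivedCategory (Sheaf J AddCommGrpCat.{u})} (f : M ⟶ M') (m : ℤ) (U : C) (x : CohCx.HDU M m U) :
    θ M' m U (x ≫ (CategoryTheory.shiftFunctor _ m).map f) =
      ((homologyFunctor _ m).map f).hom.app (op U) (θ M m U x) := by
  refine Eq.trans ?_ (secEquiv_comp _ _)
  refine congrArg (secEquiv J U _) ?_
  rw [LocalDetect.cls_comp, Category.assoc, Category.assoc, hShiftIso_nat]

theorem θ_res (M : DerivedCategory (Sheaf J AddCommGrpCat.{u})) (m : ℤ) {U V : C} (f : V ⟶ U) (x : CohCx.HDU M m U) :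
    θ M m V (CohCx.HDUres M m f x) = (CohCx.HD M m).obj.map f.op (θ M m U x) := by
  refine Eq.trans ?_ (secEquiv_map f _)
  refine congrArg (secEquiv J V _) ?_
  change LocalDetect.cls ((singleFunctor _ 0).map (fsMap J f) ≫ x) ≫ _ = _
  rw [LocalDetect.cls_map, Category.assoc]

theorem exists_θ_locally (M : DerivedCategory (Sheaf J AddCommGrpCat.{u})) (m : ℤ) (U : C)
    (s : (CohCx.HD M m).obj.obj (op U)) :
    ∃ S : J.Cover U, ∀ a : S.Arrow, ∃ x, θ M m a.Y x = (CohCx.HD M m).obj.map a.f.op s := by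
  obtain ⟨T, p, hp, ξ, hξ⟩ := LocalDetect.exists_lift ((secEquiv J U _).symm s ≫ (hShiftIso M m 0 m (by omega)).inv)
  obtain ⟨S, hS⟩ := exists_local_section p
  refine ⟨S, fun a => ?_⟩
  obtain ⟨r, hr⟩ := hS a
  refine ⟨(singleFunctor _ 0).map r ≫ ξ, ?_⟩
  change secEquiv J a.Y _ (LocalDetect.cls _ ≫ _) = _
  rw [LocalDetect.cls_map, hξ]
  simp only [Category.assoc, Iso.inv_hom_id, Category.comp_id]
  rw [← Category.assoc, hr, secEquiv_map, AddEquiv.apply_symm_apply]

section Class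

variable (B : Set C)
    (hB : ∀ U : C, ∃ (ι : Type u) (Y : ι → C) (f : ∀ i, Y i ⟶ U), Sieve.ofArrows Y f ∈ J U ∧ ∀ i, Y i ∈ B)

include hB in
theorem θ_bijective (M : DerivedCategory (Sheaf J AddCommGrpCat.{u}))
    (h : ∀ U ∈ B, ∀ (p : ℕ) (q : ℤ), Subsingleton (CohSite.HU (CohCx.HD M q) (p + 1) U))
    (m : ℤ) (U : C) (hU : U ∈ B) : Function.Bijective (θ M m U) := by
  let X := (CategoryTheory.shiftFunctor (DerivedCategory (Sheaf J AddCommGrpCat.{u})) m).obj M
  have hsm : ∀ W ∈ B, ∀ i, TowerStab.Small 0 (fs J W) ((DerivedCategory.homologyFunctor _ i).obj X) := fun W hW i k hk g => by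
    let e := hShiftIso M m i (m + i) rfl
    rw [← cancel_mono ((CategoryTheory.shiftFunctor _ k).map ((singleFunctor _ 0).map e.hom)), zero_comp]
    exact small_of_subsingleton _ W (fun p => h W hW p (m + i)) k hk _
  have : HasProductsOfShape ℕ (DerivedCategory (Sheaf J AddCommGrpCat.{u})) := DerivedProd.hasProductsOfShape
  have hL := TowerStab.isRlimVia_truncGE (X := X) (𝒞 := HDUAcyclic.cover B hB)
    (fun i => ⟨0, by rintro _ ⟨W, hW, rfl⟩ p; exact hsm W hW p⟩)
  exact (secEquiv J U _).bijective.comp (((Iso.homCongr (Iso.refl _) (hShiftIso M m 0 m (by omega))).bijective.comp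
    (bijective_cls_rlim (fs J U) X (hsm U hU) hL)) |> fun h => by
      convert h using 1
      funext x
      simp [Iso.homCongr])

variable {K : ℕ → DerivedCategory (Sheaf J AddCommGrpCat.{u})} {t : ∀ n, K (n + 1) ⟶ K n}
  (h1 : ∀ U ∈ B, ∀ (p : ℕ) (q : ℤ) (n : ℕ), Subsingleton (CohSite.HU (CohCx.HD (K n) q) (p + 1) U))
  (h2 : ∀ U ∈ B, ∀ (q : ℤ), CohCx.LimOneIsZero (fun n => (CohCx.HD (K n) q).obj.obj (op U))
      (fun n => (((DerivedCategory.homologyFunctor _ q).map (t n)).hom.app (op U)).hom))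

include hB h1 h2 in
theorem limOne_HDU (U : C) (hU : U ∈ B) (m : ℤ) :
    CohCx.LimOneIsZero (fun n => CohCx.HDU (K n) m U)
      (fun n => Preadditive.rightComp _ ((CategoryTheory.shiftFunctor _ m).map (t n))) :=
  limOne_congr (A := fun n => CohCx.HDU (K n) m U) (A' := fun n => (CohCx.HD (K n) m).obj.obj (op U)) _ _
    (fun n => θ (K n) m U) (fun n => θ_bijective B hB (K n) (fun V hV p q => h1 V hV p q n) m U hU)
    (fun n x => θ_map (t n) m U x) (h2 U hU m)

variable [HasProduct K] {L : DerivedCategory (Sheaf J AddCommGrpCat.{u})} {a : ∀ n, L ⟶ K n}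
  (hL : CohCx.IsRlimVia K t L a)

include hB h1 h2 hL in
theorem nonempty_iso_limit (q : ℤ) :
    Nonempty (CohCx.HD L q ≅ limit (CohCx.opSequence (fun n => CohCx.HD (K n) q)
      (fun n => (DerivedCategory.homologyFunctor _ q).map (t n)))) := by
  let F := CohCx.opSequence (fun n => CohCx.HD (K n) q) (fun n => (DerivedCategory.homologyFunctor _ q).map (t n))
  let c : Cone F :=
    { pt := CohCx.HD L q
      π := NatTrans.ofOpSequence (fun n => (DerivedCategory.homologyFunctor _ q).map (a n)) fun n => by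
        change 𝟙 _ ≫ (DerivedCategory.homologyFunctor _ q).map (a n) =
          (DerivedCategory.homologyFunctor _ q).map (a (n + 1)) ≫ F.map (homOfLE n.le_succ).op
        rw [Category.id_comp, Functor.ofOpSequence_map_homOfLE_succ, ← Functor.map_comp, TowerStab.rlim_w hL] }
  let ψ := limit.lift F c
  have hψ : ∀ (n : ℕ) (V : C) (s : (CohCx.HD L q).obj.obj (op V)), (limit.π F (op n)).hom.app (op V) (ψ.hom.app (op V) s) =
      ((DerivedCategory.homologyFunctor _ q).map (a n)).hom.app (op V) s := fun n V s =>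
    congr($(congr_app (congrArg (fun f : c.pt ⟶ F.obj (op n) => f.hom) (limit.lift_π c (op n))) (op V)) s)
  have hext : ∀ (V : C) (x y : (limit F).obj.obj (op V)),
      (∀ n, (limit.π F (op n)).hom.app (op V) x = (limit.π F (op n)).hom.app (op V) y) → x = y := fun V x y hxy =>
    Concrete.isLimit_ext _ (isLimitOfPreserves (sheafToPresheaf J AddCommGrpCat.{u} ⋙ (evaluation _ _).obj (op V))
      (limit.isLimit F)) x y fun n => hxy n.unop
  have hnat : ∀ {V W : C} (g : W ⟶ V) {M N : Sheaf J AddCommGrpCat.{u}} (f : M ⟶ N) (s : M.obj.obj (op V)),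
      f.hom.app (op W) (M.obj.map g.op s) = N.obj.map g.op (f.hom.app (op V) s) := fun g _ _ f s =>
    congr($(f.hom.naturality g.op) s)
  have hmono : Mono ψ := by
    have : ∀ V, Function.Injective (ψ.hom.app V) := fun ⟨V⟩ => (injective_iff_map_eq_zero _).2 fun s hs => by
      obtain ⟨S, hS⟩ := exists_θ_locally L q V s
      refine eq_zero_of_locally _ S.1 S.2 _ fun W g hg => ?_
      obtain ⟨ι, F', f, hY, hFB⟩ := hB W
      refine eq_zero_of_locally _ _ hY _ ?_
      rintro W' _ ⟨Z, r, g', hg', rfl⟩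
      obtain ⟨i⟩ := hg'
      obtain ⟨x, hx⟩ := hS ⟨F' i, f i ≫ g, S.1.downward_closed hg _⟩
      have hz : ∀ n, ((DerivedCategory.homologyFunctor _ q).map (a n)).hom.app (op (F' i)) (θ L q (F' i) x) = 0 := fun n => by
        rw [hx, hnat, ← hψ, hs, map_zero, map_zero]
      have hx0 : x = 0 := (RlimVia.exists_lift_and_unique K t L a hL _ q).2
        (limOne_HDU B hB h1 h2 (F' i) (hFB i) (q - 1)) x fun n =>
          (θ_bijective B hB (K n) (fun V' hV p q' => h1 V' hV p q' n) q (F' i) (hFB i)).1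
            ((θ_map (a n) q (F' i) x).trans ((hz n).trans (map_zero _).symm))
      rw [op_comp, Functor.map_comp]
      refine (congrArg ((CohCx.HD L q).obj.map r.op) ?_).trans (map_zero ((CohCx.HD L q).obj.map r.op).hom)
      rw [hx0, map_zero, op_comp, Functor.map_comp] at hx
      exact hx.symm
    have : ∀ V, Mono (ψ.hom.app V) := fun V => (AddCommGrpCat.mono_iff_injective _).2 (this V)
    have : Mono ψ.hom := NatTrans.mono_of_mono_app _
    exact (sheafToPresheaf J AddCommGrpCat.{u}).mono_of_mono_map this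
  have hepi : Epi ψ := (Sheaf.isLocallySurjective_iff_epi' _ ψ).1 ⟨fun {V} s => by
    obtain ⟨ι, F', f, hY, hFB⟩ := hB V
    refine J.superset_covering ?_ hY
    rintro W _ ⟨Z, r, g', hg', rfl⟩
    obtain ⟨i⟩ := hg'
    let ℓ := (limit F).obj.map (f i).op s
    choose x hx using fun n => (θ_bijective B hB (K n) (fun V' hV p q' => h1 V' hV p q' n) q (F' i) (hFB i)).2
      ((limit.π F (op n)).hom.app (op (F' i)) ℓ)
    obtain ⟨y, hy⟩ := (RlimVia.exists_lift_and_unique K t L a hL _ q).1 x fun n => by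
      refine (θ_bijective B hB (K n) (fun V' hV p q' => h1 V' hV p q' n) q (F' i) (hFB i)).1 ?_
      rw [θ_map, hx, hx]
      have h3 := limit.w F (homOfLE n.le_succ).op
      rw [Functor.ofOpSequence_map_homOfLE_succ] at h3
      exact congr($(congr_app (congrArg (fun φ : limit F ⟶ F.obj (op n) => φ.hom) h3) (op (F' i))) ℓ)
    refine ⟨(CohCx.HD L q).obj.map r.op (θ L q (F' i) y), ?_⟩
    rw [op_comp, Functor.map_comp]
    refine (hnat r ψ _).trans (congrArg ((limit F).obj.map r.op) (hext _ _ _ fun n => ?_))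
    exact (hψ n (F' i) _).trans ((θ_map (a n) q (F' i) y).symm.trans ((congrArg (θ (K n) q (F' i)) (hy n)).trans (hx n)))⟩
  have : IsIso ψ := isIso_of_mono_of_epi ψ
  exact ⟨asIso ψ⟩

end Class

end Groth.L10.Rlim
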