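import Groth.Agent.L10.Rlim.Detect
import Groth.Agent.L10.SiteCover
import Groth.Agent.L10.HDUAcyclic
import Groth.Agent.L10.SheafModGroth
import Groth.Prelude.Def_ModSite

/-! Test objects for sheaves of modules, and derived limits of truncations. -/

universe u

open CategoryTheory CategoryTheory.Limits CategoryTheory.Abelian Opposite DerivedCategory

set_option autoImplicit false
set_option backward.defeqAttrib.useBackward true
set_option backward.isDefEq.respectTransparency false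
set_option backward.isDefEq.respectTransparency.types false
namespace Groth.L10.Rlim

variable {C : Type u} [SmallCategory C] {J : GrothendieckTopology C} (O : Sheaf J CommRingCat.{u})

/-- Test objects on a ringed site. -/
noncomputable def modCover (B : Set C)
    (hB : ∀ U : C, ∃ (ι : Type u) (Y : ι → C) (g : ∀ i, Y i ⟶ U), Sieve.ofArrows Y g ∈ J U ∧ ∀ i, Y i ∈ B)
    (good : B → Set C)
    (hgood : ∀ V : B, ∀ T ∈ J V.1, ∃ (ι : Type u) (Y : ι → C) (g : ∀ i, Y i ⟶ V.1),
      (∀ i, T.arrows (g i)) ∧ Sieve.ofArrows Y g ∈ J V.1 ∧ ∀ i, Y i ∈ good V) :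
    LCover (ModSite.Mod O) B where
  P := (SiteCover.cover O B hB good hgood).P
  good := (SiteCover.cover O B hB good hgood).good
  Zero _ _ b := b = 0
  sep _ _ g h := (SiteCover.cover O B hB good hgood).sep g h
  cov i _ p _ _ b h := (SiteCover.cover O B hB good hgood).cov i p b h

variable [HasDerivedCategory.{u} (ModSite.Mod O)]

theorem eq_zero_of_HU_mod (M : ModSite.Mod O) (W : C) (k : ℕ) (hk : 0 < k)
    (h : Subsingleton (ModSite.HU O M k W))
    (g : (singleFunctor _ 0).obj (SiteCover.P O W) ⟶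
      (CategoryTheory.shiftFunctor (DerivedCategory (ModSite.Mod O)) (k : ℤ)).obj ((singleFunctor _ 0).obj M)) :
    g = 0 := by
  haveI : IsGrothendieckAbelian.{u} (ModSite.Mod O) := Groth.L10.shMod_isGrothendieckAbelian _
  letI : HasExt.{u + 1} (ModSite.Mod O) := HasExt.standard _
  obtain ⟨q, rfl⟩ : ∃ q, k = q + 1 := ⟨k - 1, by omega⟩
  have h1 : Subsingleton (Ext (SiteCoh.fs J W) (ModSite.toAb M) (q + 1)) := h
  have := SiteCover.subsingleton_ext_free O (SiteFr.rep J W) M q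
    ((SiteFr.extFsRep (J := J) W (ModSite.toAb M) (q + 1)).toEquiv.symm.subsingleton)
  haveI : Subsingleton (Ext.{u} (SiteCover.P O W) M (q + 1)) :=
    (Ext.chgUniv.{u + 1, u} (X := SiteCover.P O W) (Y := M) (n := q + 1)).subsingleton
  have h2 := (Ext.homEquiv.{u} (X := SiteCover.P O W) (Y := M) (n := q + 1)).symm.subsingleton
  exact h2.elim g 0

/-- The stabilisation of the tower of truncations with a bound for each total degree. -/
theorem exists_bound_mod (E : DerivedCategory (ModSite.Mod O)) (p : ℤ → ℤ) (j : ℤ) :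
    ∃ N : ℕ, ∀ W : C, (∀ (m : ℤ) (k : ℕ), p m < k → m - k < 0 → Subsingleton
        (ModSite.HU O ((homologyFunctor (ModSite.Mod O) (m - k)).obj E) k W)) →
      ∀ n, N ≤ n →
      Function.Bijective (fun x : (CategoryTheory.shiftFunctor _ (-j)).obj ((singleFunctor _ 0).obj (SiteCover.P O W)) ⟶
        (DerivedCategory.TStructure.t.truncGE (-((n + 1 : ℕ) : ℤ))).obj E => x ≫ TowerStab.tr E n) ∧
      Function.Surjective (fun x : (CategoryTheory.shiftFunctor _ (-j + 1)).obj ((singleFunctor _ 0).obj (SiteCover.P O W)) ⟶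
        (DerivedCategory.TStructure.t.truncGE (-((n + 1 : ℕ) : ℤ))).obj E => x ≫ TowerStab.tr E n) := by
  refine ⟨(|p (j - 1)| + |p j| + |p (j + 1)| + |j| + 3).toNat, fun W hW n hn => ?_⟩
  have key : ∀ (m e : ℤ), m = j - 1 ∨ m = j ∨ m = j + 1 → e + (-((n + 1 : ℕ) : ℤ)) = m →
      ∀ g : (singleFunctor _ 0).obj (SiteCover.P O W) ⟶ (CategoryTheory.shiftFunctor _ e).obj
        ((singleFunctor _ 0).obj ((homologyFunctor _ (-((n + 1 : ℕ) : ℤ))).obj E)), g = 0 := fun m e hm he g => by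
    have hb : p m + |j| + 2 < (n : ℤ) ∧ m + 1 ≥ -|j| := by
      have := abs_nonneg (p (j - 1)); have := abs_nonneg (p j); have := abs_nonneg (p (j + 1))
      have := le_abs_self (p (j - 1)); have := le_abs_self (p j); have := le_abs_self (p (j + 1))
      have := le_abs_self (-j); rw [abs_neg] at this
      rcases hm with rfl | rfl | rfl <;> constructor <;> omega
    have hjn : |j| + 2 < (n : ℤ) := by
      have := abs_nonneg (p (j - 1)); have := abs_nonneg (p j); have := abs_nonneg (p (j + 1))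
      omega
    obtain ⟨k, rfl⟩ : ∃ k : ℕ, (k : ℤ) = e := ⟨e.toNat, by omega⟩
    have := hW m k (by omega) (by omega)
    rw [show m - k = -((n + 1 : ℕ) : ℤ) by omega] at this
    exact eq_zero_of_HU_mod O _ W k (by omega) this g
  exact ⟨bijective_tr' E (-j) n (key j _ (Or.inr (Or.inl rfl)) (by omega)) (key (j + 1) _ (Or.inr (Or.inr rfl)) (by omega)),
    (bijective_tr' E (-j + 1) n (key (j - 1) _ (Or.inl rfl) (by omega))
      (key j _ (Or.inr (Or.inl rfl)) (by omega))).surjective⟩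

/-- Locally bounded cohomological dimension in the negative degrees suffices. -/
theorem isRlimVia_truncTower_mod (E : DerivedCategory (ModSite.Mod O)) [HasProduct (CohCx.truncTower E)]
    (B : Set C)
    (hB : ∀ U : C, ∃ (ι : Type u) (Y : ι → C) (f : ∀ i, Y i ⟶ U), Sieve.ofArrows Y f ∈ J U ∧ ∀ i, Y i ∈ B)
    (p : B → ℤ → ℤ)
    (h : ∀ V : B, ∀ T ∈ J V.1, ∃ (ι : Type u) (Y : ι → C) (f : ∀ i, Y i ⟶ V.1),
      (∀ i, T.arrows (f i)) ∧ Sieve.ofArrows Y f ∈ J V.1 ∧
      ∀ (i : ι) (m : ℤ) (k : ℕ), p V m < k → m - k < 0 → Subsingleton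
        (ModSite.HU O ((homologyFunctor (ModSite.Mod O) (m - k)).obj E) k (Y i))) :
    CohCx.IsRlimVia (CohCx.truncTower E) (CohCx.truncTowerMap E) E (CohCx.toTruncTower E) := by
  let 𝒞 := modCover O B hB
    (fun V => {W | ∀ (m : ℤ) (k : ℕ), p V m < k → m - k < 0 → Subsingleton
      (ModSite.HU O ((homologyFunctor (ModSite.Mod O) (m - k)).obj E) k W)})
    (fun V T hT => by
      obtain ⟨ι, Y, f, h1, h2, h3⟩ := h V T hT
      exact ⟨ι, Y, f, h1, h2, h3⟩)
  haveI : IsGrothendieckAbelian.{u} (ModSite.Mod O) := Groth.L10.shMod_isGrothendieckAbelian _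
  exact isRlimVia_truncGE 𝒞 fun j V => by
    obtain ⟨N, hN⟩ := exists_bound_mod O E (p V) j
    refine ⟨N, ?_⟩
    rintro _ ⟨W, hW, rfl⟩
    exact hN W hW

end Groth.L10.Rlim

namespace Groth.L10.Rlim

variable {C : Type u} [SmallCategory C] {J : GrothendieckTopology C}

theorem exists_cover_in (B : Set C)
    (hB : ∀ U : C, ∃ (ι : Type u) (Y : ι → C) (f : ∀ i, Y i ⟶ U), Sieve.ofArrows Y f ∈ J U ∧ ∀ i, Y i ∈ B)
    {V : C} (T : Sieve V) (hT : T ∈ J V) :
    ∃ (ι : Type u) (Y : ι → C) (f : ∀ i, Y i ⟶ V),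
      (∀ i, T.arrows (f i)) ∧ Sieve.ofArrows Y f ∈ J V ∧ ∀ i, Y i ∈ B := by
  choose ι Yf f hf hfB using hB
  let Idx := Σ a : Σ W : C, {g : W ⟶ V // T g}, ι a.1
  refine ⟨Idx, fun x => Yf x.1.1 x.2, fun x => f x.1.1 x.2 ≫ x.1.2.1, fun x => T.downward_closed x.1.2.2 _, ?_, fun x => hfB _ _⟩
  refine J.transitive hT _ fun W g hg => J.superset_covering ?_ (hf W)
  rintro Z a ⟨Z', q, _, ⟨i⟩, rfl⟩
  change Sieve.ofArrows _ _ ((q ≫ f W i) ≫ g)
  rw [Category.assoc]
  exact (Sieve.ofArrows (fun x : Idx => Yf x.1.1 x.2) fun x => f x.1.1 x.2 ≫ x.1.2.1).downward_closed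
    (Sieve.ofArrows_mk _ _ (⟨⟨W, g, hg⟩, i⟩ : Idx)) q

end Groth.L10.Rlim
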