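import Groth.Agent.L10.Rlim.Detect
import Groth.Agent.L10.HDUAcyclic
import Groth.Prelude.Def_CohTop

/-! Test objects for abelian sheaves, and derived limits of truncations. -/

universe u

open CategoryTheory CategoryTheory.Limits CategoryTheory.Abelian Opposite DerivedCategory TopologicalSpace

set_option autoImplicit false
set_option backward.defeqAttrib.useBackward true
set_option backward.isDefEq.respectTransparency false
set_option backward.isDefEq.respectTransparency.types false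
namespace Groth.L10.Rlim

open Groth.L10.SiteCoh Groth.L10.HDUAcyclic

variable {C : Type u} [SmallCategory C] {J : GrothendieckTopology C}

theorem secEquiv_fsMap_comp {V W : C} (g : W ⟶ V) {N : Sheaf J AddCommGrpCat.{u}} (b : fs J V ⟶ N) :
    secEquiv J W N (fsMap J g ≫ b) = N.obj.map g.op (secEquiv J V N b) := secEquiv_map g b

/-- An epimorphism onto a representable sheaf has local sections. -/
theorem exists_local_section {V : C} {T : Sheaf J AddCommGrpCat.{u}} (p : T ⟶ fs J V) [Epi p] :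
    ∃ S : J.Cover V, ∀ a : S.Arrow, ∃ r : fs J a.Y ⟶ T, r ≫ p = fsMap J a.f := by
  obtain ⟨S, hS⟩ := locally_surjective_of_epi p (secEquiv J V (fs J V) (𝟙 _))
  refine ⟨S, fun a => ?_⟩
  obtain ⟨t, ht⟩ := hS a
  refine ⟨(secEquiv J a.Y T).symm t, (secEquiv J a.Y _).injective ?_⟩
  rw [secEquiv_comp, AddEquiv.apply_symm_apply, ← Category.comp_id (fsMap J a.f), secEquiv_map]
  exact ht

/-- Test objects on a site: a class covering every object, each member with cofinally many good coverings. -/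
noncomputable def siteCover (B : Set C)
    (hB : ∀ U : C, ∃ (ι : Type u) (Y : ι → C) (f : ∀ i, Y i ⟶ U), Sieve.ofArrows Y f ∈ J U ∧ ∀ i, Y i ∈ B)
    (good : B → Set C)
    (hgood : ∀ V : B, ∀ T ∈ J V.1, ∃ (ι : Type u) (Y : ι → C) (g : ∀ i, Y i ⟶ V.1),
      (∀ i, T.arrows (g i)) ∧ Sieve.ofArrows Y g ∈ J V.1 ∧ ∀ i, Y i ∈ good V) :
    LCover (Sheaf J AddCommGrpCat.{u}) B where
  P V := fs J V.1
  good V Q := ∃ W ∈ good V, Q = fs J W
  Zero _ _ b := b = 0
  sep _ _ g h := (HDUAcyclic.cover B hB).sep g h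
  cov V T p _ N b h := by
    obtain ⟨S, hS⟩ := exists_local_section p
    obtain ⟨ι, F, g, hgS, hY, hYg⟩ := hgood V S.1 S.2
    apply (secEquiv J V.1 N).injective
    rw [map_zero]
    refine eq_zero_of_locally N _ hY _ ?_
    rintro W _ ⟨Z, q, g', hg', rfl⟩
    obtain ⟨i⟩ := hg'
    obtain ⟨r, hr⟩ := hS ⟨F i, g i, hgS i⟩
    have h1 := h (fs J (F i)) r ⟨F i, hYg i, rfl⟩
    rw [← Category.assoc, hr] at h1
    have h3 : N.obj.map (g i).op (secEquiv J V.1 N b) = 0 := by
      rw [← secEquiv_fsMap_comp, h1, map_zero]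
    rw [op_comp, Functor.map_comp]
    exact (congrArg (N.obj.map q.op) h3).trans (map_zero (N.obj.map q.op).hom)

/-- Test objects at the points of a space. -/
noncomputable def spaceCover {X : TopCat.{u}} (good : X → Set (Opens X))
    (hgood : ∀ x : X, ∀ V : Opens X, x ∈ V → ∃ W ∈ good x, x ∈ W ∧ W ≤ V) :
    LCover (CohTop.Ab X) (Σ x : X, {V : Opens X // x ∈ V}) where
  P i := fs (Opens.grothendieckTopology X) i.2.1
  good i Q := ∃ W ∈ good i.1, Q = fs (Opens.grothendieckTopology X) W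
  Zero i N b := ∃ (W : Opens X) (h : W ≤ i.2.1), i.1 ∈ W ∧ fsMap (Opens.grothendieckTopology X) (homOfLE h) ≫ b = 0
  sep M N φ h := by
    refine Sheaf.hom_ext (NatTrans.ext (funext fun U => AddCommGrpCat.hom_ext (AddMonoidHom.ext fun s => ?_)))
    choose W hW hxW h0 using fun x : U.unop => h ⟨x.1, U.unop, x.2⟩ ((secEquiv _ U.unop M).symm s)
    refine eq_zero_of_locally N (Sieve.ofArrows W fun x => homOfLE (hW x))
      (fun x hx => ⟨W ⟨x, hx⟩, homOfLE (hW _), Sieve.ofArrows_mk _ _ _, hxW ⟨x, hx⟩⟩) _ ?_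
    rintro V _ ⟨Z, q, g', hg', rfl⟩
    obtain ⟨x⟩ := hg'
    have h3 : N.obj.map (homOfLE (hW x)).op (φ.hom.app U s) = 0 := by
      have h1 := congrArg (secEquiv _ (W x) N) (h0 x)
      rw [secEquiv_map, secEquiv_comp, AddEquiv.apply_symm_apply, map_zero] at h1
      exact h1
    rw [op_comp, Functor.map_comp]
    exact (congrArg (N.obj.map q.op) h3).trans (map_zero (N.obj.map q.op).hom)
  cov i T p _ N b h := by
    obtain ⟨S, hS⟩ := exists_local_section p
    obtain ⟨Z, f, hf, hxZ⟩ := S.2 i.1 i.2.2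
    obtain ⟨r, hr⟩ := hS ⟨Z, f, hf⟩
    obtain ⟨W, hWg, hxW, hWZ⟩ := hgood i.1 Z hxZ
    refine ⟨W, hWZ.trans f.le, hxW, ?_⟩
    have h1 := h (fs _ W) (fsMap _ (homOfLE hWZ) ≫ r) ⟨W, hWg, rfl⟩
    rw [Category.assoc, ← Category.assoc r, hr] at h1
    apply (secEquiv _ W N).injective
    rw [map_zero, secEquiv_map]
    have h2 := congrArg (secEquiv _ W N) h1
    rw [secEquiv_map, secEquiv_map, map_zero, ← ConcreteCategory.comp_apply, ← Functor.map_comp, ← op_comp] at h2
    exact h2

variable [HasDerivedCategory.{u} (Sheaf J AddCommGrpCat.{u})]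

theorem eq_zero_of_HU (M : Sheaf J AddCommGrpCat.{u}) (W : C) (k : ℕ) (e : ℤ) (he : (k : ℤ) = e)
    (h : Subsingleton (CohSite.HU M k W))
    (g : (singleFunctor _ 0).obj (fs J W) ⟶
      (CategoryTheory.shiftFunctor (DerivedCategory (Sheaf J AddCommGrpCat.{u})) e).obj ((singleFunctor _ 0).obj M)) :
    g = 0 := by
  subst he
  have : Subsingleton (Ext (fs J W) M k) := h
  have h2 := (Ext.homEquiv.{u} (X := fs J W) (Y := M) (n := k)).symm.subsingleton
  exact h2.elim g 0

/-- The stabilisation of the tower of truncations on a test object with a bound for each total degree. -/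
theorem exists_bound (E : DerivedCategory (Sheaf J AddCommGrpCat.{u})) (p : ℤ → ℤ) (j : ℤ) :
    ∃ N : ℕ, ∀ W : C, (∀ (m : ℤ) (k : ℕ), p m < k → Subsingleton (CohSite.HU (CohCx.HD E (m - k)) k W)) →
      ∀ n, N ≤ n →
      Function.Bijective (fun x : (CategoryTheory.shiftFunctor _ (-j)).obj ((singleFunctor _ 0).obj (fs J W)) ⟶
        (DerivedCategory.TStructure.t.truncGE (-((n + 1 : ℕ) : ℤ))).obj E => x ≫ TowerStab.tr E n) ∧
      Function.Surjective (fun x : (CategoryTheory.shiftFunctor _ (-j + 1)).obj ((singleFunctor _ 0).obj (fs J W)) ⟶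
        (DerivedCategory.TStructure.t.truncGE (-((n + 1 : ℕ) : ℤ))).obj E => x ≫ TowerStab.tr E n) := by
  refine ⟨(|p (j - 1)| + |p j| + |p (j + 1)| + |j| + 3).toNat, fun W hW n hn => ?_⟩
  have key : ∀ (m e : ℤ), m = j - 1 ∨ m = j ∨ m = j + 1 → e + (-((n + 1 : ℕ) : ℤ)) = m →
      ∀ g : (singleFunctor _ 0).obj (fs J W) ⟶ (CategoryTheory.shiftFunctor _ e).obj
        ((singleFunctor _ 0).obj ((homologyFunctor _ (-((n + 1 : ℕ) : ℤ))).obj E)), g = 0 := fun m e hm he g => by
    have hb : p m + |j| + 2 < (n : ℤ) ∧ m + 1 ≥ -|j| := by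
      have := abs_nonneg (p (j - 1)); have := abs_nonneg (p j); have := abs_nonneg (p (j + 1))
      have := le_abs_self (p (j - 1)); have := le_abs_self (p j); have := le_abs_self (p (j + 1))
      have := le_abs_self (-j); rw [abs_neg] at this
      rcases hm with rfl | rfl | rfl <;> constructor <;> omega
    obtain ⟨k, rfl⟩ : ∃ k : ℕ, (k : ℤ) = e := ⟨e.toNat, by
      have := abs_nonneg (p (j - 1)); have := abs_nonneg (p j); have := abs_nonneg (p (j + 1))
      omega⟩
    have := hW m k (by omega)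
    rw [show m - k = -((n + 1 : ℕ) : ℤ) by omega] at this
    exact eq_zero_of_HU _ W k k rfl this g
  exact ⟨bijective_tr' E (-j) n (key j _ (Or.inr (Or.inl rfl)) (by omega)) (key (j + 1) _ (Or.inr (Or.inr rfl)) (by omega)),
    (bijective_tr' E (-j + 1) n (key (j - 1) _ (Or.inl rfl) (by omega))
      (key j _ (Or.inr (Or.inl rfl)) (by omega))).surjective⟩

end Groth.L10.Rlim
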